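import Mathlib.LinearAlgebra.Eigenspace.Basic
import Mathlib.RingTheory.Noetherian.Basic
import Mathlib.Algebra.Algebra.Basic
import Mathlib.LinearAlgebra.DFinsupp

/-!
# Simultaneous diagonalization over a field of commuting `R`-linear endomorphisms

`k` a field, `R` a Noetherian `k`-algebra, `V` an `R`-module, `f i` commuting `R`-linear
endomorphisms, each diagonalizable over `k`.
-/

set_option autoImplicit false

namespace K881.Diag

open Module.End

universe u v w x

section field

variable {k : Type u} [Field k] {V : Type w} [AddCommGroup V] [Module k V]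

/-- If a sum of eigenvectors for pairwise different eigenvalues lies in a stable subspace, then
each of them does. -/
theorem mem_of_sum_mem (f : Module.End k V) (W : Submodule k V) (hW : ∀ w ∈ W, f w ∈ W)
    (s : Finset k) : ∀ (v : k → V), (∀ μ ∈ s, v μ ∈ eigenspace f μ) → ∑ μ ∈ s, v μ ∈ W →
      ∀ μ ∈ s, v μ ∈ W := by
  classical
  induction s using Finset.induction_on with
  | empty => simp
  | insert a s ha ih =>
    intro v hv hsum
    have h1 : ∀ μ ∈ s, (μ - a) • v μ ∈ W := by
      apply ih (fun μ => (μ - a) • v μ)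
      · intro μ hμ
        exact Submodule.smul_mem _ _ (hv μ (Finset.mem_insert_of_mem hμ))
      · have h2 : ∑ μ ∈ s, (μ - a) • v μ = f (∑ μ ∈ insert a s, v μ) - a • ∑ μ ∈ insert a s, v μ := by
          rw [Finset.sum_insert ha, map_add, smul_add, map_sum, Finset.smul_sum]
          have h3 : f (v a) = a • v a := mem_eigenspace_iff.1 (hv a (Finset.mem_insert_self _ _))
          have h4 : ∀ μ ∈ s, f (v μ) = μ • v μ := fun μ hμ =>
            mem_eigenspace_iff.1 (hv μ (Finset.mem_insert_of_mem hμ))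
          rw [h3, Finset.sum_congr rfl h4, Finset.sum_congr rfl (fun μ _ => sub_smul μ a (v μ)),
            Finset.sum_sub_distrib]
          abel
        rw [h2]
        exact W.sub_mem (hW _ hsum) (W.smul_mem _ hsum)
    have h5 : ∀ μ ∈ s, v μ ∈ W := by
      intro μ hμ
      have hne : μ - a ≠ 0 := by
        rw [sub_ne_zero]
        rintro rfl
        exact ha hμ
      have := W.smul_mem (μ - a)⁻¹ (h1 μ hμ)
      rwa [smul_smul, inv_mul_cancel₀ hne, one_smul] at this
    intro μ hμ
    rcases Finset.mem_insert.1 hμ with rfl | hμ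
    · rw [Finset.sum_insert ha] at hsum
      have := W.sub_mem hsum (W.sum_mem h5)
      simpa using this
    · exact h5 μ hμ

/-- A subspace stable under a diagonalizable endomorphism is the sum of its intersections with the
eigenspaces. -/
theorem le_iSup_inf_eigenspace (f : Module.End k V) (hf : ⨆ μ, eigenspace f μ = ⊤)
    (W : Submodule k V) (hW : ∀ w ∈ W, f w ∈ W) : W ≤ ⨆ μ, W ⊓ eigenspace f μ := by
  classical
  intro w hw
  have h1 : w ∈ ⨆ μ, eigenspace f μ := by rw [hf]; trivial
  obtain ⟨v, hv⟩ := (Submodule.mem_iSup_iff_exists_dfinsupp' _ _).1 h1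
  rw [DFinsupp.sum] at hv
  have h2 := mem_of_sum_mem f W hW v.support (fun μ => (v μ : V)) (fun μ _ => (v μ).2)
    (by rw [hv]; exact hw)
  rw [← hv]
  exact Submodule.sum_mem _ fun μ hμ =>
    Submodule.mem_iSup_of_mem μ ⟨h2 μ hμ, (v μ).2⟩

end field

section main

variable {k : Type u} [Field k] {R : Type v} [CommRing R] [Algebra k R]
  {V : Type w} [AddCommGroup V] [Module R V] [Module k V] [IsScalarTower k R V]

/-- The eigenspace over `k` as an `R`-submodule. -/
def eigR (f : Module.End R V) (μ : k) : Submodule R V where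
  carrier := {v | f v = μ • v}
  add_mem' := by
    intro a b ha hb
    simp only [Set.mem_ofPred_eq] at ha hb ⊢
    rw [map_add, ha, hb, smul_add]
  zero_mem' := by simp
  smul_mem' := by
    intro r v hv
    simp only [Set.mem_ofPred_eq] at hv ⊢
    rw [map_smul, hv, ← algebraMap_smul R μ v, ← algebraMap_smul R μ (r • v), smul_smul, smul_smul,
      mul_comm]

theorem mem_eigR {f : Module.End R V} {μ : k} {v : V} : v ∈ eigR f μ ↔ f v = μ • v := Iff.rfl

theorem mem_eigR' {f : Module.End R V} {μ : k} {v : V} :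
    v ∈ eigR f μ ↔ v ∈ eigenspace (f.restrictScalars k) μ := by
  rw [mem_eigR, mem_eigenspace_iff]
  rfl

theorem iSupIndep_eigR (f : Module.End R V) : iSupIndep (fun μ : k => eigR f μ) := by
  classical
  rw [iSupIndep_iff_finsetSum_eq_zero_imp_eq_zero]
  have h := (iSupIndep_iff_finsetSum_eq_zero_imp_eq_zero _).1
    (eigenspaces_iSupIndep (f.restrictScalars k : Module.End k V))
  intro s v hv hs
  exact h s v (fun μ hμ => mem_eigR'.1 (hv μ hμ)) hs

theorem iSup_eigR (f : Module.End R V)
    (hf : ⨆ μ : k, eigenspace (f.restrictScalars k) μ = ⊤)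
    (W : Submodule R V) (hW : ∀ w ∈ W, f w ∈ W) : W = ⨆ μ : k, W ⊓ eigR f μ := by
  refine le_antisymm ?_ (iSup_le fun μ => inf_le_left)
  intro w hw
  have h1 := le_iSup_inf_eigenspace (f.restrictScalars k) hf (W.restrictScalars k) hW hw
  refine Submodule.iSup_induction (fun μ : k => W.restrictScalars k ⊓
    eigenspace (f.restrictScalars k) μ) (motive := fun x => x ∈ ⨆ μ : k, W ⊓ eigR f μ) h1 ?_ ?_ ?_
  · intro μ x hx
    exact Submodule.mem_iSup_of_mem μ ⟨hx.1, mem_eigR'.2 hx.2⟩
  · exact Submodule.zero_mem _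
  · intro x y hx hy
    exact Submodule.add_mem _ hx hy

/-- Simultaneous diagonalization, for a Noetherian module. -/
theorem iSup_iInf_eq_top_of_isNoetherian [IsNoetherian R V] {ι : Type x} (f : ι → Module.End R V)
    (hcomm : ∀ i j, Commute (f i) (f j))
    (hdiag : ∀ i, ⨆ μ : k, eigenspace ((f i).restrictScalars k) μ = ⊤) :
    ⨆ χ : ι → k, ⨅ i, eigenspace ((f i).restrictScalars k) (χ i) = ⊤ := by
  classical
  set T : Submodule k V := ⨆ χ : ι → k, ⨅ i, eigenspace ((f i).restrictScalars k) (χ i) with hT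
  by_contra hne
  -- stable submodules
  let St : Submodule R V → Prop := fun D => ∀ i, ∀ w ∈ D, f i w ∈ D
  let Bad : Set (Submodule R V) := {C | ∃ D, St D ∧ Disjoint C D ∧ C ⊔ D = ⊤ ∧
    ¬ D.restrictScalars k ≤ T}
  have hBne : Bad.Nonempty := by
    refine ⟨⊥, ⊤, fun i w _ => trivial, disjoint_bot_left, bot_sup_eq _, ?_⟩
    intro h
    exact hne (top_le_iff.1 (by simpa using h))
  obtain ⟨C, ⟨D, hD, hCD, hCDt, hDbad⟩, hmax⟩ := WellFounded.has_min
    (wellFounded_gt (α := Submodule R V)) Bad hBne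
  -- `D` is not contained in a common eigenspace
  have hj : ∃ j, ∀ μ : k, ¬ D ≤ eigR (f j) μ := by
    by_contra hcon
    push Not at hcon
    choose χ hχ using hcon
    apply hDbad
    refine le_trans ?_ (le_iSup (fun χ : ι → k =>
      ⨅ i, eigenspace ((f i).restrictScalars k) (χ i)) χ)
    refine le_iInf fun i => ?_
    intro v hv
    exact mem_eigR'.1 (hχ i hv)
  obtain ⟨j, hj⟩ := hj
  have hDsup := iSup_eigR (f j) (hdiag j) D (hD j)
  have hμ : ∃ μ : k, ¬ (D ⊓ eigR (f j) μ).restrictScalars k ≤ T := by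
    by_contra hcon
    push Not at hcon
    apply hDbad
    intro v hv
    rw [Submodule.restrictScalars_mem, hDsup] at hv
    refine Submodule.iSup_induction (fun μ : k => D ⊓ eigR (f j) μ)
      (motive := fun x => x ∈ T) hv ?_ ?_ ?_
    · intro μ x hx
      exact hcon μ hx
    · exact Submodule.zero_mem _
    · intro x y hx hy
      exact Submodule.add_mem _ hx hy
  obtain ⟨μ, hμ⟩ := hμ
  -- the complement of `D ⊓ E μ` in `D`
  let D' : Submodule R V := ⨆ ν : k, ⨆ _ : ν ≠ μ, D ⊓ eigR (f j) ν
  have hD' : D = (D ⊓ eigR (f j) μ) ⊔ D' := by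
    refine le_antisymm ?_ (sup_le inf_le_left (iSup_le fun ν => iSup_le fun _ => inf_le_left))
    conv_lhs => rw [hDsup]
    refine iSup_le fun ν => ?_
    by_cases hν : ν = μ
    · subst hν
      exact le_sup_left
    · exact le_trans (le_iSup₂_of_le ν hν le_rfl) le_sup_right
  have hdisj : Disjoint (D ⊓ eigR (f j) μ) D' := by
    refine Disjoint.mono inf_le_right ?_ (iSupIndep_eigR (k := k) (f j) μ)
    exact iSup₂_mono fun ν _ => inf_le_right
  have hD'ne : D' ≠ ⊥ := by
    intro h0
    rw [h0, sup_bot_eq] at hD'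
    apply hj μ
    rw [hD']
    exact inf_le_right
  have hstab : St (D ⊓ eigR (f j) μ) := by
    intro i w hw
    refine ⟨hD i w hw.1, ?_⟩
    have h1 : f j w = μ • w := hw.2
    change f j (f i w) = μ • f i w
    have h2 : f j (f i w) = f i (f j w) := by
      have := LinearMap.congr_fun (hcomm j i) w
      exact this
    rw [h2, h1]
    exact ((f i).restrictScalars k).map_smul μ w
  have hbad' : C ⊔ D' ∈ Bad := by
    refine ⟨D ⊓ eigR (f j) μ, hstab, ?_, ?_, hμ⟩
    · have h3 : Disjoint C (D' ⊔ (D ⊓ eigR (f j) μ)) := by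
        rw [sup_comm, ← hD']
        exact hCD
      exact Disjoint.disjoint_sup_left_of_disjoint_sup_right hdisj.symm h3
    · rw [sup_assoc, sup_comm D', ← hD']
      exact hCDt
  apply hmax _ hbad'
  refine lt_of_le_of_ne le_sup_left ?_
  intro h4
  have h5 : D' ≤ C := by rw [h4]; exact le_sup_right
  have h6 : D' ≤ D := by
    conv_rhs => rw [hD']
    exact le_sup_right
  exact hD'ne (le_bot_iff.1 (hCD.le_bot.trans' (le_inf h5 h6)))

/-- Simultaneous diagonalization, for a locally finite family. -/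
theorem iSup_iInf_eq_top [IsNoetherianRing R] {ι : Type x} (f : ι → Module.End R V)
    (hcomm : ∀ i j, Commute (f i) (f j))
    (hdiag : ∀ i, ⨆ μ : k, eigenspace ((f i).restrictScalars k) μ = ⊤)
    (hfin : ∀ v : V, ∃ W : Submodule R V, v ∈ W ∧ W.FG ∧ ∀ i, ∀ w ∈ W, f i w ∈ W) :
    ⨆ χ : ι → k, ⨅ i, eigenspace ((f i).restrictScalars k) (χ i) = ⊤ := by
  classical
  rw [eq_top_iff]
  intro v _
  obtain ⟨W, hvW, hWfg, hW⟩ := hfin v
  have hWf : Module.Finite R W := Module.Finite.iff_fg.2 hWfg
  let g : ι → Module.End R W := fun i => (f i).restrict (hW i)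
  have hgc : ∀ i j, Commute (g i) (g j) := by
    intro i j
    ext w
    exact LinearMap.congr_fun (hcomm i j) (w : V)
  have hgd : ∀ i, ⨆ μ : k, eigenspace ((g i).restrictScalars k) μ = ⊤ := by
    intro i
    rw [eq_top_iff]
    rintro ⟨w, hw⟩ _
    have h1 := iSup_eigR (f i) (hdiag i) W (hW i)
    have h2 : w ∈ ⨆ μ : k, W ⊓ eigR (f i) μ := by rw [← h1]; exact hw
    have key : ∀ (x : V), x ∈ (⨆ μ : k, W ⊓ eigR (f i) μ) → ∀ hx : x ∈ W, (⟨x, hx⟩ : W) ∈
        ⨆ μ : k, eigenspace ((g i).restrictScalars k) μ := by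
      intro x hx
      refine Submodule.iSup_induction (fun μ : k => W ⊓ eigR (f i) μ)
        (motive := fun x => x ∈ W ∧ ∀ hx : x ∈ W, (⟨x, hx⟩ : W) ∈
        ⨆ μ : k, eigenspace ((g i).restrictScalars k) μ) hx ?_ ?_ ?_ |>.2
      · intro μ x hx
        refine ⟨hx.1, fun hxW => Submodule.mem_iSup_of_mem μ ?_⟩
        rw [mem_eigenspace_iff]
        apply Subtype.ext
        exact hx.2
      · exact ⟨W.zero_mem, fun _ => Submodule.zero_mem _⟩
      · rintro x y ⟨hx, hx'⟩ ⟨hy, hy'⟩
        exact ⟨W.add_mem hx hy, fun _ => Submodule.add_mem _ (hx' hx) (hy' hy)⟩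
    exact key w h2 hw
  have h3 := iSup_iInf_eq_top_of_isNoetherian (k := k) g hgc hgd
  have h4 : (⟨v, hvW⟩ : W) ∈ ⨆ χ : ι → k, ⨅ i, eigenspace ((g i).restrictScalars k) (χ i) := by
    rw [h3]; trivial
  refine Submodule.iSup_induction _
    (motive := fun x : W => (x : V) ∈ ⨆ χ : ι → k, ⨅ i, eigenspace ((f i).restrictScalars k) (χ i))
    h4 ?_ ?_ ?_
  · intro χ x hx
    refine Submodule.mem_iSup_of_mem χ ?_
    rw [Submodule.mem_iInf] at hx ⊢
    intro i
    have := mem_eigenspace_iff.1 (hx i)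
    rw [mem_eigenspace_iff]
    exact congrArg Subtype.val this
  · exact Submodule.zero_mem _
  · intro x y hx hy
    exact Submodule.add_mem _ hx hy

end main

end K881.Diag
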