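import Groth.Prelude.Def_W4c3madredgrpAct
import Groth.Agent.Books.ComodDual
import Groth.Agent.MadRed.K881.Diag
import Mathlib.RingTheory.Bialgebra.Convolution
import Mathlib.LinearAlgebra.TensorProduct.Tower

/-!
# Right translations on `R ⊗ A`: composition and local finiteness
-/

set_option autoImplicit false

namespace K881.PtAct

open TensorProduct

universe u v w

section comp

variable (k : Type u) [CommRing k] (A : Type v) [CommRing A] [Bialgebra k A]
  (R : Type w) [CommRing R] [Algebra k R]

theorem ptAct_tmul (g : A →ₐ[k] R) (r : R) (a : A) :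
    MadRed.ptAct k A R g (r ⊗ₜ[k] a) = r • MadRed.translAux k A R g a := by
  rw [MadRed.ptAct, Algebra.TensorProduct.lift_tmul, Algebra.TensorProduct.includeLeft_apply,
    Algebra.smul_def]
  rfl

theorem translAux_apply (g : A →ₐ[k] R) (a : A) :
    MadRed.translAux k A R g a =
      TensorProduct.map g.toLinearMap LinearMap.id (TensorProduct.comm k A A
        (CoalgebraStruct.comul (R := k) a)) := rfl

/-- `x ⊗ (y ⊗ z) ↦ (g y * h z) ⊗ x` -/
noncomputable def Phi (g h : A →ₐ[k] R) : A ⊗[k] (A ⊗[k] A) →ₗ[k] R ⊗[k] A :=
  TensorProduct.map (LinearMap.mul' k R ∘ₗ TensorProduct.map g.toLinearMap h.toLinearMap)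
    LinearMap.id ∘ₗ (TensorProduct.comm k A (A ⊗[k] A)).toLinearMap

theorem Phi_tmul (g h : A →ₐ[k] R) (x y z : A) :
    Phi k A R g h (x ⊗ₜ (y ⊗ₜ z)) = (g y * h z) ⊗ₜ[k] x := by
  simp [Phi]

theorem ptAct_comp (g h : A →ₐ[k] R) (x : R ⊗[k] A) :
    MadRed.ptAct k A R g (MadRed.ptAct k A R h x) =
      MadRed.ptAct k A R (WithConv.ofConv (WithConv.toConv g * WithConv.toConv h)) x := by
  have key1 : ∀ y : A ⊗[k] A, Phi k A R g h ((TensorProduct.assoc k A A A).toLinearMap
      ((CoalgebraStruct.comul (R := k) (A := A)).rTensor A y)) =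
      MadRed.ptAct k A R g (TensorProduct.map h.toLinearMap LinearMap.id
        (TensorProduct.comm k A A y)) := by
    intro y
    induction y with
    | zero => simp
    | add x y hx hy => simp only [map_add, hx, hy]
    | tmul x b =>
      simp only [LinearMap.rTensor_tmul, TensorProduct.comm_tmul, TensorProduct.map_tmul,
        LinearMap.id_apply, ptAct_tmul, translAux_apply]
      generalize (CoalgebraStruct.comul (R := k) (A := A)) x = z
      induction z with
      | zero => simp
      | add x y hx hy => simp only [map_add, add_tmul, smul_add, hx, hy]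
      | tmul x a =>
        simp only [LinearEquiv.coe_coe, TensorProduct.assoc_tmul, Phi_tmul, TensorProduct.comm_tmul,
          TensorProduct.map_tmul, LinearMap.id_apply, AlgHom.toLinearMap_apply, TensorProduct.smul_tmul',
          smul_eq_mul]
        rw [mul_comm]
  have key2 : ∀ y : A ⊗[k] A, Phi k A R g h ((CoalgebraStruct.comul (R := k) (A := A)).lTensor A y) =
      TensorProduct.map (WithConv.ofConv (WithConv.toConv g * WithConv.toConv h)).toLinearMap
        LinearMap.id (TensorProduct.comm k A A y) := by
    intro y
    induction y with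
    | zero => simp
    | add x y hx hy => simp only [map_add, hx, hy]
    | tmul x b =>
      simp only [LinearMap.lTensor_tmul, TensorProduct.comm_tmul, TensorProduct.map_tmul,
        LinearMap.id_apply]
      have e : (WithConv.ofConv (WithConv.toConv g * WithConv.toConv h)).toLinearMap b =
        LinearMap.mul' k R (TensorProduct.map g.toLinearMap h.toLinearMap
          (CoalgebraStruct.comul (R := k) b)) := rfl
      rw [e]
      generalize (CoalgebraStruct.comul (R := k) (A := A)) b = z
      induction z with
      | zero => simp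
      | add x y hx hy => simp only [map_add, add_tmul, tmul_add, hx, hy]
      | tmul y z => simp [Phi_tmul]
  induction x with
  | zero => simp
  | add x y hx hy => simp only [map_add, hx, hy]
  | tmul r a =>
    rw [ptAct_tmul, map_smul, ptAct_tmul]
    congr 1
    rw [translAux_apply, translAux_apply, ← key1, ← key2]
    congr 1
    exact LinearMap.congr_fun (Coalgebra.coassoc (R := k) (A := A)) a

end comp

section finite

variable (k : Type u) [Field k] (A : Type v) [CommRing A] [HopfAlgebra k A]
  (R : Type w) [CommRing R] [Algebra k R]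

theorem exists_stable (x : R ⊗[k] A) : ∃ W : Submodule R (R ⊗[k] A), x ∈ W ∧ W.FG ∧
    ∀ g : A →ₐ[k] R, ∀ w ∈ W, MadRed.ptAct k A R g w ∈ W := by
  classical
  obtain ⟨s, hs⟩ := TensorProduct.exists_finset x
  obtain ⟨U, hU, hUf, hsU⟩ := Groth.Agent.Books.ComodDual.exists_finite_subcomod
    (k := k) (A := A) (V := A) (s.image Prod.snd)
  refine ⟨LinearMap.range (U.subtype.baseChange R), ?_, ?_, ?_⟩
  · rw [hs]
    refine Submodule.sum_mem _ fun p hp => ?_
    refine ⟨p.1 ⊗ₜ ⟨p.2, hsU _ (Finset.mem_image_of_mem _ hp)⟩, ?_⟩
    simp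
  · exact Module.Finite.fg_top.map (U.subtype.baseChange R) |> fun h => by
      rwa [Submodule.map_top] at h
  · rintro g _ ⟨y, rfl⟩
    induction y with
    | zero => simp
    | add x y hx hy =>
      rw [map_add, map_add]
      exact Submodule.add_mem _ hx hy
    | tmul r a =>
      rw [LinearMap.baseChange_tmul, ptAct_tmul]
      refine Submodule.smul_mem _ _ ?_
      rw [translAux_apply]
      obtain ⟨z, hz⟩ := hU a a.2
      change U.subtype.rTensor A z = CoalgebraStruct.comul (a : A) at hz
      rw [Submodule.subtype_apply, ← hz]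
      clear hz
      induction z with
      | zero => simp
      | add x y hx hy =>
        simp only [map_add]
        exact Submodule.add_mem _ hx hy
      | tmul a b =>
        refine ⟨g b ⊗ₜ a, ?_⟩
        simp

end finite

end K881.PtAct
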